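import Groth.Agent.H25.Multi.Completion
import Groth.Agent.H25.DeltaBaseChange
import Groth.Agent.Lib.Unram.CompletionBranch
import Groth.Agent.Lib.Regular.Completion

/-!
Local rings whose completion is a multicross.
-/

set_option autoImplicit false
set_option linter.style.haveILetI false
universe u

namespace Groth.Agent.H25.Multi.Converse

open IsLocalRing

theorem numBranches_of_equiv (k : Type u) [Field k] (B : Type u) [CommRing B] [IsLocalRing B]
    [IsNoetherianRing B] (n : ℕ) [NeZero n] (e : B ≃+* Model.cross k n) :
    Brnch.numBranches B = n := by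
  letI := Model.isLocalRing (k := k) (n := n)
  haveI : IsReduced B := isReduced_of_injective e.toRingHom e.injective
  haveI : IsNoetherianRing (Model.cross k n) := isNoetherianRing_of_ringEquiv B e
  rw [Completion.numBranches_eq, ← Model.numBranches_cross (k := k) (n := n),
    Completion.numBranches_eq]
  obtain ⟨ε, -⟩ := H25.NormRed.exists_normRed_equiv B (Model.cross k n) e
  obtain ⟨ε', -⟩ := H25.NormRed.exists_normRed_equiv (Model.cross k n) (Model.cross k n)
    (RingEquiv.refl _)
  let ee := ε.trans ε'.symm
  exact ENat.card_congr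
    { toFun := fun M => ⟨M.asIdeal.comap (ee.symm.toRingHom),
        haveI := M.isMaximal
        Ideal.comap_isMaximal_of_surjective _ ee.symm.surjective⟩
      invFun := fun M => ⟨M.asIdeal.comap (ee.toRingHom),
        haveI := M.isMaximal
        Ideal.comap_isMaximal_of_surjective _ ee.surjective⟩
      left_inv := fun M => MaximalSpectrum.ext (by
        ext x
        show ee.symm (ee x) ∈ M.asIdeal ↔ _
        rw [RingEquiv.symm_apply_apply])
      right_inv := fun M => MaximalSpectrum.ext (by
        ext x
        show ee (ee.symm x) ∈ M.asIdeal ↔ _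
        rw [RingEquiv.apply_symm_apply]) }

/-- A local ring whose completion is the multicross with `n` branches. -/
theorem of_completion (k : Type u) [Field k] (A : Type u) [CommRing A] [IsLocalRing A]
    [IsNoetherianRing A] [IsReduced A] [Module.Finite A (integralClosure A (FractionRing A))]
    (hdim : ringKrullDim A = 1) (n : ℕ)
    (e : AdicCompletion (maximalIdeal A) A ≃+*
      (MvPowerSeries (Fin n) k ⧸ Ideal.span {f : MvPowerSeries (Fin n) k |
        ∃ i j : Fin n, i ≠ j ∧ f = MvPowerSeries.X i * MvPowerSeries.X j})) :
    Brnch.numBranches A = n ∧ Curv2.deltaInv A + 1 = n := by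
  haveI : Ring.KrullDimLE 1 A := (Ring.krullDimLE_iff).2 hdim.le
  have hne : maximalIdeal A ≠ ⊤ := (maximalIdeal.isMaximal A).ne_top
  rcases Nat.eq_zero_or_pos n with rfl | hn
  · exfalso
    let Q := MvPowerSeries (Fin 0) k ⧸ Ideal.span {f : MvPowerSeries (Fin 0) k |
      ∃ i j : Fin 0, i ≠ j ∧ f = MvPowerSeries.X i * MvPowerSeries.X j}
    have h1 : ringKrullDim Q ≤ 0 := (ringKrullDim_quotient_le _).trans
      (H24.PowerSeries.ringKrullDim_eq k 0).le
    rw [← ringKrullDim_eq_of_ringEquiv e, Lib.Regular.Completion.ringKrullDim_eq _ hne, hdim] at h1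
    exact absurd h1 (by decide)
  · haveI : NeZero n := ⟨hn.ne'⟩
    obtain ⟨ψ, -⟩ := Model.exists_equiv k n
    let e' := e.trans ψ
    refine ⟨?_, ?_⟩
    · rw [← (Lib.Unram.CompletionBranch.numBranches_completion_eq_of_dim_one A hdim).1]
      exact numBranches_of_equiv k _ n e'
    · haveI := Lib.Regular.Completion.isLocalHom (maximalIdeal A) hne
      haveI : Algebra.IsSeparable (ResidueField A)
          (ResidueField (AdicCompletion (maximalIdeal A) A)) := by
        let f : ResidueField A →ₐ[ResidueField A] ResidueField (AdicCompletion (maximalIdeal A) A) :=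
          Algebra.ofId _ _
        have hb : Function.Bijective f :=
          AdicCompletion.residueField_map_bijective_of_fg (IsNoetherian.noetherian (maximalIdeal A))
        exact Algebra.IsSeparable.of_algHom _ _ (AlgEquiv.ofBijective f hb).symm.toAlgHom
      have h1 := H25.DeltaFlat.deltaInv_eq A (AdicCompletion (maximalIdeal A) A)
        (Lib.Regular.Completion.map_maximalIdeal (maximalIdeal A) hne)
      rw [← h1, DeltaBaseChange.deltaInv_of_ringEquiv e', Model.deltaInv_cross (k := k) (n := n)]
      norm_cast
      omega

end Groth.Agent.H25.Multi.Converse
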