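import Groth.Agent.H25.Multi.Model
import Mathlib.RingTheory.AdicCompletion.Completeness
import Mathlib.RingTheory.AdicCompletion.RingHom
import Mathlib.RingTheory.Ideal.Cotangent
import Mathlib.RingTheory.PowerSeries.Trunc
import Mathlib.LinearAlgebra.Dimension.Free

/-!
Completions of rings mapping to tuples of power series with a common constant term.
-/

set_option autoImplicit false
set_option linter.style.haveILetI false
universe u

namespace Groth.Agent.H25.Multi.Branchwise

open PowerSeries

theorem dvd_coe_iff {k : Type u} [Field k] (p : Polynomial k) (N : ℕ) :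
    (X : PowerSeries k) ^ N ∣ (p : PowerSeries k) ↔ Polynomial.X ^ N ∣ p := by
  rw [X_pow_dvd_iff, Polynomial.X_pow_dvd_iff]
  simp [Polynomial.coeff_coe]

theorem mem_span_pow_iff {k : Type u} [Field k] (f : PowerSeries k) (N : ℕ) :
    f ∈ (Ideal.span {(X : PowerSeries k)}) ^ N ↔ X ^ N ∣ f := by
  rw [Ideal.span_singleton_pow, Ideal.mem_span_singleton]

theorem eq_of_forall_dvd_sub {k : Type u} [Field k] (f g : PowerSeries k)
    (h : ∀ N, X ^ N ∣ f - g) : f = g :=
  PowerSeries.ext fun n => sub_eq_zero.1
    ((map_sub (coeff n) f g).symm.trans (X_pow_dvd_iff.1 (h (n + 1)) n n.lt_succ_self))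

/-- Expansion in powers of a uniformiser at a rational maximal ideal. -/
theorem exists_expansion {k R : Type u} [Field k] [CommRing R] [Algebra k R] (q : Ideal R) (π : R)
    (hπ : π ∈ q) (hres : ∀ x : R, ∃ c : k, x - algebraMap k R c ∈ q)
    (hstep : ∀ N x, x ∈ q ^ N → ∃ b, x - b * π ^ N ∈ q ^ (N + 1))
    (hne : ∀ N, ¬ q ^ N ≤ q ^ (N + 1)) :
    ∃ ψ : R →+* PowerSeries k, (∀ c, ψ (algebraMap k R c) = C c) ∧
      (∀ N x, X ^ N ∣ ψ x ↔ x ∈ q ^ N) ∧ ∀ N f, ∃ x, X ^ N ∣ ψ x - f := by
  classical
  have hπN : ∀ N, π ^ N ∈ q ^ N := fun N => Ideal.pow_mem_pow hπ N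
  have hsurj : ∀ N x, ∃ p : Polynomial k, x - Polynomial.aeval π p ∈ q ^ N := by
    intro N
    induction N with
    | zero => exact fun x => ⟨0, by simp⟩
    | succ N ih =>
      intro x
      obtain ⟨p, hp⟩ := ih x
      obtain ⟨b, hb⟩ := hstep N _ hp
      obtain ⟨c, hc⟩ := hres b
      refine ⟨p + Polynomial.C c * Polynomial.X ^ N, ?_⟩
      have h1 : (b - algebraMap k R c) * π ^ N ∈ q ^ (N + 1) := by
        rw [pow_succ' q N]
        exact Ideal.mul_mem_mul hc (hπN N)
      have h2 := add_mem hb h1
      rw [map_add, map_mul, map_pow, Polynomial.aeval_C, Polynomial.aeval_X]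
      rwa [show x - (Polynomial.aeval π p + algebraMap k R c * π ^ N) =
        x - Polynomial.aeval π p - b * π ^ N + (b - algebraMap k R c) * π ^ N by ring]
  have hker : ∀ N (p : Polynomial k), Polynomial.aeval π p ∈ q ^ N → Polynomial.X ^ N ∣ p := by
    intro N
    induction N with
    | zero => exact fun p _ => by simp
    | succ N ih =>
      intro p hp
      obtain ⟨p', rfl⟩ := ih p (Ideal.pow_le_pow_right (by omega) hp)
      rw [pow_succ]
      refine mul_dvd_mul_left _ (Polynomial.X_dvd_iff.2 (by_contra fun hc => hne N ?_))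
      obtain ⟨r, hr⟩ : Polynomial.X ∣ p' - Polynomial.C (p'.coeff 0) :=
        Polynomial.X_dvd_iff.2 (by simp)
      rw [map_mul, map_pow, Polynomial.aeval_X] at hp
      have h1 : π ^ N * algebraMap k R (p'.coeff 0) ∈ q ^ (N + 1) := by
        have h2 : π ^ N * (π * Polynomial.aeval π r) ∈ q ^ (N + 1) := by
          rw [← mul_assoc, ← pow_succ]
          exact Ideal.mul_mem_right _ _ (hπN (N + 1))
        have h3 := sub_mem hp h2
        have h4 : Polynomial.aeval π p' - π * Polynomial.aeval π r =
            algebraMap k R (p'.coeff 0) := by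
          have := congrArg (Polynomial.aeval π) hr
          rw [map_sub, map_mul, Polynomial.aeval_C, Polynomial.aeval_X] at this
          linear_combination this
        rwa [← mul_sub, h4] at h3
      have h5 : π ^ N ∈ q ^ (N + 1) :=
        (Ideal.mul_unit_mem_iff_mem _ ((Ne.isUnit hc).map (algebraMap k R))).1 h1
      intro x hx
      obtain ⟨b, hb⟩ := hstep N x hx
      simpa using add_mem hb (Ideal.mul_mem_left _ b h5)
  choose P hP using hsurj
  have huniq : ∀ N x (p : Polynomial k), x - Polynomial.aeval π p ∈ q ^ N →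
      X ^ N ∣ ((P N x : Polynomial k) : PowerSeries k) - (p : PowerSeries k) := by
    intro N x p hp
    rw [← Polynomial.coe_sub, dvd_coe_iff]
    refine hker N _ ?_
    rw [map_sub]
    simpa using sub_mem hp (hP N x)
  let I : Ideal (PowerSeries k) := Ideal.span {X}
  have heq : ∀ N x (p : Polynomial k), x - Polynomial.aeval π p ∈ q ^ N →
      Ideal.Quotient.mk (I ^ N) (P N x : PowerSeries k) = Ideal.Quotient.mk (I ^ N) (p : PowerSeries k) :=
    fun N x p hp => Ideal.Quotient.eq.2 ((mem_span_pow_iff _ N).2 (huniq N x p hp))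
  let F : ∀ N, R →+* PowerSeries k ⧸ I ^ N := fun N =>
    { toFun := fun x => Ideal.Quotient.mk (I ^ N) (P N x : PowerSeries k)
      map_one' := by simpa using heq N 1 1 (by simp)
      map_mul' := fun x y => by
        rw [← map_mul, ← Polynomial.coe_mul]
        refine heq N _ _ ?_
        rw [map_mul, show x * y - Polynomial.aeval π (P N x) * Polynomial.aeval π (P N y) =
          (x - Polynomial.aeval π (P N x)) * y +
            Polynomial.aeval π (P N x) * (y - Polynomial.aeval π (P N y)) by ring]
        exact add_mem (Ideal.mul_mem_right _ _ (hP N x)) (Ideal.mul_mem_left _ _ (hP N y))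
      map_zero' := by simpa using heq N 0 0 (by simp)
      map_add' := fun x y => by
        rw [← map_add, ← Polynomial.coe_add]
        refine heq N _ _ ?_
        rw [map_add, show x + y - (Polynomial.aeval π (P N x) + Polynomial.aeval π (P N y)) =
          (x - Polynomial.aeval π (P N x)) + (y - Polynomial.aeval π (P N y)) by ring]
        exact add_mem (hP N x) (hP N y) }
  have hcompat : ∀ {a b : ℕ} (h : a ≤ b), (Ideal.Quotient.factorPow I h).comp (F b) = F a := by
    intro a b h
    refine RingHom.ext fun x => ?_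
    exact (heq a x (P b x) (Ideal.pow_le_pow_right h (hP b x))).symm
  let ψ := IsAdicComplete.liftRingHom I F hcompat
  have hψ : ∀ N x, X ^ N ∣ ψ x - (P N x : PowerSeries k) := fun N x => by
    rw [← mem_span_pow_iff, ← Ideal.Quotient.eq]
    exact IsAdicComplete.mk_liftRingHom I F hcompat N x
  refine ⟨ψ, fun c => eq_of_forall_dvd_sub _ _ fun N => ?_, fun N x => ?_, fun N f => ?_⟩
  · have h := dvd_add (hψ N (algebraMap k R c)) (huniq N (algebraMap k R c) (Polynomial.C c) (by simp))
    rw [sub_add_sub_cancel, Polynomial.coe_C] at h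
    exact h
  · have hiff : X ^ N ∣ ψ x ↔ X ^ N ∣ (P N x : PowerSeries k) := dvd_iff_dvd_of_dvd_sub (hψ N x)
    rw [hiff, dvd_coe_iff]
    refine ⟨fun h => ?_, fun h => hker N _ ?_⟩
    · obtain ⟨r, hr⟩ := h
      have h1 := hP N x
      rw [hr, map_mul, map_pow, Polynomial.aeval_X] at h1
      simpa using add_mem h1 (Ideal.mul_mem_right (Polynomial.aeval π r) _ (hπN N))
    · simpa using sub_mem h (hP N x)
  · refine ⟨Polynomial.aeval π (trunc N f), ?_⟩
    have h := dvd_add (hψ N (Polynomial.aeval π (trunc N f))) (huniq N (Polynomial.aeval π (trunc N f)) (trunc N f) (by simp))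
    rw [sub_add_sub_cancel] at h
    have h2 : X ^ N ∣ (trunc N f : PowerSeries k) - f := by
      rw [X_pow_dvd_iff]
      intro m hm
      simp [Polynomial.coeff_coe, coeff_trunc, hm]
    simpa using dvd_add h h2

open IsLocalRing

variable {k A : Type u} [Field k] [CommRing A] [IsLocalRing A] [Algebra k A] {n : ℕ}
  (g : A →+* (Fin n → PowerSeries k))
  (hc : ∀ c, g (algebraMap k A c) = fun _ => C c)
  (hmem : ∀ N a, (∀ i, X ^ N ∣ g a i) ↔ a ∈ maximalIdeal A ^ N)
  (hlift : ∀ N, ∀ f ∈ Model.cross k n, ∃ a, ∀ i, X ^ N ∣ g a i - f i)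
  (hres : ∀ a : A, ∃ c : k, a - algebraMap k A c ∈ maximalIdeal A)

include hc hmem hres in
theorem g_mem_cross (a : A) : g a ∈ Model.cross k n := by
  obtain ⟨c, hcm⟩ := hres a
  have h := (hmem 1 (a - algebraMap k A c)).2 (by rwa [pow_one])
  have : ∀ i, constantCoeff (g a i) = c := fun i => by
    have h1 := h i
    rw [pow_one, X_dvd_iff, map_sub g, hc, Pi.sub_apply, map_sub, constantCoeff_C, sub_eq_zero] at h1
    exact h1
  exact fun i j => (this i).trans (this j).symm

include hc hmem hlift hres in
/-- The completion is the multicross. -/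
theorem exists_completion :
    ∃ φ : AdicCompletion (maximalIdeal A) A →+* (Fin n → PowerSeries k),
      Function.Injective φ ∧
      (∀ c : k, φ (algebraMap A _ (algebraMap k A c)) = fun _ => algebraMap k (PowerSeries k) c) ∧
      Set.range φ = (Model.cross k n : Set (Fin n → PowerSeries k)) := by
  let m := maximalIdeal A
  let I : Ideal (PowerSeries k) := Ideal.span {X}
  let gi : Fin n → A →+* PowerSeries k := fun i => (Pi.evalRingHom _ i).comp g
  have hle : ∀ i N, m ^ N ≤ (I ^ N).comap (gi i) := fun i N a ha =>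
    (mem_span_pow_iff _ N).2 ((hmem N a).2 ha i)
  let F : ∀ i N, AdicCompletion m A →+* PowerSeries k ⧸ I ^ N := fun i N =>
    (Ideal.quotientMap (I ^ N) (gi i) (hle i N)).comp (AdicCompletion.evalₐ m N).toRingHom
  have hcompat : ∀ i {a b : ℕ} (h : a ≤ b),
      (Ideal.Quotient.factorPow I h).comp (F i b) = F i a := by
    intro i a b h
    refine RingHom.ext fun z => ?_
    obtain ⟨w, rfl⟩ := AdicCompletion.mk_surjective m A z
    show Ideal.Quotient.factorPow I h
      (Ideal.quotientMap _ (gi i) (hle i b) (AdicCompletion.evalₐ m b (AdicCompletion.mk m A w))) =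
        Ideal.quotientMap _ (gi i) (hle i a) (AdicCompletion.evalₐ m a (AdicCompletion.mk m A w))
    rw [AdicCompletion.evalₐ_mk, AdicCompletion.evalₐ_mk, Ideal.quotientMap_mk, Ideal.quotientMap_mk]
    refine (Ideal.Quotient.factor_mk _ _).trans (Ideal.Quotient.eq.2 ?_)
    rw [← map_sub]
    refine hle i a ?_
    have h1 := SModEq.sub_mem.1 (w.2 h)
    rw [smul_eq_mul, Ideal.mul_top] at h1
    simpa using neg_mem h1
  let φ : AdicCompletion m A →+* (Fin n → PowerSeries k) :=
    RingHom.pi fun i => IsAdicComplete.liftRingHom I (F i) (hcompat i)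
  have hφ : ∀ z N a, AdicCompletion.evalₐ m N z = Ideal.Quotient.mk _ a →
      ∀ i, X ^ N ∣ φ z i - g a i := by
    intro z N a ha i
    rw [← mem_span_pow_iff, ← Ideal.Quotient.eq]
    refine (IsAdicComplete.mk_liftRingHom I (F i) (hcompat i) N z).trans ?_
    show Ideal.quotientMap _ (gi i) (hle i N) (AdicCompletion.evalₐ m N z) = _
    rw [ha]
    rfl
  refine ⟨φ, ?_, fun c => funext fun i => eq_of_forall_dvd_sub _ _ fun N => ?_, ?_⟩
  · rw [injective_iff_map_eq_zero]
    intro z hz
    refine AdicCompletion.ext_evalₐ fun N => ?_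
    obtain ⟨a, ha⟩ := Ideal.Quotient.mk_surjective (AdicCompletion.evalₐ m N z)
    rw [map_zero, ← ha, Ideal.Quotient.eq_zero_iff_mem]
    refine (hmem N a).1 fun i => ?_
    simpa [hz] using hφ z N a ha.symm i
  · have := hφ (algebraMap A _ (algebraMap k A c)) N (algebraMap k A c) (AlgHom.commutes _ _) i
    rwa [hc] at this
  · apply Set.eq_of_subset_of_subset
    · rintro _ ⟨z, rfl⟩ i j
      obtain ⟨a, ha⟩ := Ideal.Quotient.mk_surjective (AdicCompletion.evalₐ m 1 z)
      have h := fun i => hφ z 1 a ha.symm i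
      simp only [pow_one, X_dvd_iff, map_sub, sub_eq_zero] at h
      rw [h i, h j]
      exact g_mem_cross g hc hmem hres a i j
    · intro f hf
      choose a ha using fun N => hlift N f hf
      have hcauchy : ∀ {p q : ℕ}, p ≤ q → a p ≡ a q [SMOD (m ^ p • ⊤ : Submodule A A)] := by
        intro p q hpq
        rw [SModEq.sub_mem, smul_eq_mul, Ideal.mul_top]
        refine (hmem p _).1 fun i => ?_
        have h := dvd_sub (ha p i) ((pow_dvd_pow X hpq).trans (ha q i))
        rw [sub_sub_sub_cancel_right] at h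
        rwa [map_sub g, Pi.sub_apply]
      let z := AdicCompletion.mk m A ⟨a, hcauchy⟩
      refine ⟨z, funext fun i => eq_of_forall_dvd_sub _ _ fun N => ?_⟩
      have h := dvd_add (hφ z N (a N) (AdicCompletion.evalₐ_mk m N ⟨a, hcauchy⟩) i) (ha N i)
      rwa [sub_add_sub_cancel] at h

include hc hmem hlift hres in
/-- The tangent space has one dimension for each branch. -/
theorem finrank_cotangent :
    Module.finrank (ResidueField A) (CotangentSpace A) = n := by
  let m := maximalIdeal A
  let T : m →ₗ[k] (Fin n → k) :=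
    { toFun := fun a i => coeff 1 (g a.1 i)
      map_add' := fun a b => funext fun i => by simp
      map_smul' := fun c a => funext fun i => by
        show coeff 1 (g (c • (a : A)) i) = c * coeff 1 (g a.1 i)
        rw [Algebra.smul_def, map_mul g, hc, Pi.mul_apply, coeff_C_mul] }
  have hT : Function.Surjective T := fun v => by
    obtain ⟨a, ha⟩ := hlift 2 (fun i => C (v i) * X)
      (Model.mem_of_constantCoeff_eq_zero fun i => by simp)
    have h2 := fun i => X_pow_dvd_iff.1 (ha i)
    have ham : a ∈ m := by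
      rw [← pow_one m]
      refine (hmem 1 a).1 fun i => ?_
      rw [pow_one, X_dvd_iff, ← coeff_zero_eq_constantCoeff_apply]
      simpa using h2 i 0 two_pos
    refine ⟨⟨a, ham⟩, funext fun i => ?_⟩
    simpa [T, sub_eq_zero] using h2 i 1 one_lt_two
  let π : m →ₗ[k] m.Cotangent := m.toCotangent.restrictScalars k
  have hker : LinearMap.ker π = LinearMap.ker T := by
    ext a
    show m.toCotangent a = 0 ↔ T a = 0
    rw [Ideal.toCotangent_eq_zero, ← hmem 2]
    have h0 : ∀ i, coeff 0 (g a.1 i) = 0 := fun i => by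
      rw [coeff_zero_eq_constantCoeff_apply, ← X_dvd_iff]
      simpa using (hmem 1 a.1).2 (by rw [pow_one]; exact a.2) i
    refine ⟨fun h => funext fun i => X_pow_dvd_iff.1 (h i) 1 one_lt_two, fun h i =>
      X_pow_dvd_iff.2 fun j hj => ?_⟩
    interval_cases j
    · exact h0 i
    · exact congrFun h i
  let e : m.Cotangent ≃ₗ[k] (Fin n → k) :=
    ((π.quotKerEquivOfSurjective m.toCotangent_surjective).symm.trans
      (Submodule.quotEquivOfEq _ _ hker)).trans (T.quotKerEquivOfSurjective hT)
  have h1 : Module.finrank k (ResidueField A) = 1 := by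
    refine Eq.trans ?_ (Module.finrank_self k)
    refine (LinearEquiv.ofBijective (Algebra.linearMap k (ResidueField A))
      ⟨(algebraMap k (ResidueField A)).injective, fun z => ?_⟩).finrank_eq.symm
    obtain ⟨a, rfl⟩ := residue_surjective z
    obtain ⟨c, hcm⟩ := hres a
    refine ⟨c, ?_⟩
    rw [← residue_eq_zero_iff, map_sub, sub_eq_zero] at hcm
    exact hcm.symm
  haveI : IsScalarTower k (ResidueField A) (CotangentSpace A) := ⟨fun c r z => by
    rw [← IsScalarTower.algebraMap_smul A c r, ← IsScalarTower.algebraMap_smul A c (r • z), smul_assoc]⟩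
  have h2 := Module.finrank_mul_finrank k (ResidueField A) (CotangentSpace A)
  rw [h1, one_mul] at h2
  rw [h2]
  exact e.finrank_eq.trans (by simp)

end Groth.Agent.H25.Multi.Branchwise
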