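import Groth.Agent.H25.Multi.Branchwise
import Groth.Agent.S12463

/-!
One-dimensional reduced local rings with `δ = branches - 1` and rational branches.
-/

set_option autoImplicit false
set_option linter.style.haveILetI false
universe u

namespace Groth.Agent.H25.Multi.Completion

open IsLocalRing
open scoped nonZeroDivisors

variable (A : Type u) [CommRing A] [IsLocalRing A] [IsNoetherianRing A] [IsReduced A]

local notation "A'" => integralClosure A (FractionRing A)

theorem exists_nonZeroDivisor_mem (hdim : ringKrullDim A = 1) : ∃ x ∈ maximalIdeal A, x ∈ A⁰ := by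
  by_contra! hall
  have hsub : (maximalIdeal A : Set A) ⊆
      ⋃ p ∈ (minimalPrimes.finite_of_isNoetherianRing (R := A)).toFinset, (id p : Set A) := by
    intro x hx
    have := hall x hx
    rw [← SetLike.mem_coe] at this
    by_contra hnot
    apply this
    rw [SetLike.mem_coe, mem_nonZeroDivisors_iff_right]
    intro y hy
    have : y ∈ nilradical A := by
      rw [nilradical, ← Ideal.sInf_minimalPrimes, Ideal.mem_sInf]
      intro p hp
      refine (hp.1.1.mem_or_mem (hy.symm ▸ p.zero_mem)).resolve_right fun hxp => hnot ?_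
      exact Set.mem_biUnion ((Set.Finite.mem_toFinset _).2 hp) hxp
    exact (mem_nilradical.1 this).eq_zero
  obtain ⟨p, hp, hle⟩ := (Ideal.subset_union_prime ⊥ ⊥
    (fun p hp _ _ => ((Set.Finite.mem_toFinset _).1 hp).1.1)).1 hsub
  have hp' := (Set.Finite.mem_toFinset _).1 hp
  have := hp'.1.1
  have h1 := IsLocalRing.maximalIdeal_height_eq_ringKrullDim (R := A)
  rw [(maximalIdeal.isMaximal A).eq_of_le hp'.1.1.ne_top hle] at h1
  rw [Ideal.height_eq_zero_iff.2 hp', hdim] at h1
  exact zero_ne_one h1

omit [IsNoetherianRing A] [IsReduced A] in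
theorem comap_eq (q : Ideal A') [q.IsMaximal] : q.comap (algebraMap A A') = maximalIdeal A :=
  IsLocalRing.eq_maximalIdeal (Ideal.isMaximal_comap_of_isIntegral_of_isMaximal q)

/-- Uniformisers at the points of the normalisation. -/
theorem exists_uniformizer [Module.Finite A A'] (hdim : ringKrullDim A = 1) (q : Ideal A')
    [q.IsMaximal] :
    ∃ π ∈ q, (∀ N x, x ∈ q ^ N → ∃ b, x - b * π ^ N ∈ q ^ (N + 1)) ∧
      ∀ N, ¬ q ^ N ≤ q ^ (N + 1) := by
  haveI : Ring.KrullDimLE 1 A := (Ring.krullDimLE_iff).2 hdim.le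
  haveI : IsNoetherianRing A' := IsNoetherianRing.of_finite A _
  let R := Localization.AtPrime q
  have hreg : IsRegularLocalRing R := H25.DeltaFlat.regular_atPrime_normalisation A q
  obtain ⟨hd, hc⟩ := H97.TotalNorm.isDomain_intClosed_atPrime q
  haveI : IsNoetherianRing R := IsLocalization.isNoetherianRing q.primeCompl _ inferInstance
  have hnf : ¬ IsField R := by
    intro hF
    obtain ⟨x, hxm, hx0⟩ := exists_nonZeroDivisor_mem A hdim
    have h0 : algebraMap A' R (algebraMap A A' x) = 0 := by
      rw [IsLocalRing.isField_iff_maximalIdeal_eq] at hF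
      rw [← Ideal.mem_bot, ← hF, IsLocalization.AtPrime.to_map_mem_maximal_iff _ q,
        ← Ideal.mem_comap, comap_eq]
      exact hxm
    obtain ⟨v, hv⟩ := (IsLocalization.map_eq_zero_iff q.primeCompl _ _).1 h0
    have hv0 : (v : A') = 0 := by
      refine Subtype.ext ((IsLocalization.map_units (FractionRing A) ⟨x, hx0⟩).mul_left_eq_zero.1 ?_)
      exact congrArg Subtype.val hv
    exact v.2 (hv0 ▸ q.zero_mem)
  haveI := S12463.dimLEOne A q
  have hdvr : IsDiscreteValuationRing R := by
    refine ((IsDiscreteValuationRing.TFAE _ hnf).out 0 3 rfl rfl).2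
      ⟨hc, maximalIdeal _, ⟨fun h => hnf (IsLocalRing.isField_iff_maximalIdeal_eq.2 h),
        inferInstance⟩, fun P hP => ?_⟩
    exact IsLocalRing.eq_maximalIdeal (hP.2.isMaximal hP.1)
  have hmap : q.map (algebraMap A' R) = maximalIdeal R := Localization.AtPrime.map_eq_maximalIdeal
  obtain ⟨ϖ, hϖ⟩ := IsDiscreteValuationRing.exists_irreducible R
  obtain ⟨⟨a, s⟩, hs⟩ := IsLocalization.surj q.primeCompl ϖ
  have hu : IsUnit (algebraMap A' R (s : A')) := IsLocalization.map_units R s
  have hspan : maximalIdeal R = Ideal.span {algebraMap A' R a} := by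
    rw [hϖ.maximalIdeal_eq, ← hs, Ideal.span_singleton_mul_right_unit hu]
  have haq : a ∈ q := by
    rw [← IsLocalization.AtPrime.to_map_mem_maximal_iff R q, hspan]
    exact Ideal.mem_span_singleton_self _
  refine ⟨a, haq, fun N x hx => ?_, fun N hle => ?_⟩
  · have h1 : algebraMap A' R x ∈ Ideal.span {algebraMap A' R a ^ N} := by
      rw [← Ideal.span_singleton_pow, ← hspan, ← hmap, ← Ideal.map_pow]
      exact Ideal.mem_map_of_mem _ hx
    obtain ⟨r, hr⟩ := Ideal.mem_span_singleton'.1 h1
    obtain ⟨⟨c, t⟩, ht⟩ := IsLocalization.surj q.primeCompl r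
    have h2 : algebraMap A' R (x * t) = algebraMap A' R (c * a ^ N) := by
      rw [map_mul, map_mul, map_pow, ← hr, ← ht]; ring
    obtain ⟨w, hw⟩ := (IsLocalization.eq_iff_exists q.primeCompl R).1 h2
    let v : A' := (w : A') * t
    have hv : v ∉ q := (‹q.IsMaximal›.isPrime.mul_notMem w.2 t.2 :)
    obtain ⟨b, e, he, hbe⟩ := ‹q.IsMaximal›.exists_inv hv
    refine ⟨b * (w * c), ?_⟩
    have : x - b * (w * c) * a ^ N = e * x := by
      simp only [v] at hbe
      linear_combination (-x) * hbe + b * hw
    rw [this, pow_succ']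
    exact Ideal.mul_mem_mul he hx
  · have h1 : algebraMap A' R (a ^ N) ∈ (q ^ (N + 1)).map (algebraMap A' R) :=
      Ideal.mem_map_of_mem _ (hle (Ideal.pow_mem_pow haq N))
    rw [Ideal.map_pow, hmap, hspan, Ideal.span_singleton_pow, map_pow] at h1
    obtain ⟨r, hr⟩ := Ideal.mem_span_singleton'.1 h1
    have ha0 : algebraMap A' R a ≠ 0 := fun h0 => hnf (IsLocalRing.isField_iff_maximalIdeal_eq.2
      (by rw [hspan, h0, Ideal.span_singleton_eq_bot]))
    rw [pow_succ', ← mul_assoc] at hr
    have h2 : r * algebraMap A' R a = 1 :=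
      mul_right_cancel₀ (pow_ne_zero N ha0) (hr.trans (one_mul _).symm)
    have hm : algebraMap A' R a ∈ maximalIdeal R := hspan ▸ Ideal.mem_span_singleton_self _
    exact (mem_maximalIdeal _).1 hm (IsUnit.of_mul_eq_one_right r h2)

/-- The maximal ideals of the normalisation count the branches. -/
theorem numBranches_eq :
    Brnch.numBranches A = ENat.card (MaximalSpectrum A') := by
  obtain ⟨ε, -⟩ := H25.NormRed.exists_normRed_equiv A A (RingEquiv.refl A)
  rw [Brnch.numBranches, if_pos (minimalPrimes.finite_of_isNoetherianRing A)]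
  refine ENat.card_congr
    { toFun := fun M => ⟨M.asIdeal.comap (ε : A' →+* CAlg2.normRed A),
        haveI := M.isMaximal
        Ideal.comap_isMaximal_of_surjective _ ε.surjective⟩
      invFun := fun M => ⟨M.asIdeal.comap (ε.symm : CAlg2.normRed A →+* A'),
          haveI := M.isMaximal
          Ideal.comap_isMaximal_of_surjective _ ε.symm.surjective⟩
      left_inv := fun M => MaximalSpectrum.ext (by
        ext x
        show ε (ε.symm x) ∈ M.asIdeal ↔ _
        rw [RingEquiv.apply_symm_apply])
      right_inv := fun M => MaximalSpectrum.ext (by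
        ext x
        show ε.symm (ε x) ∈ M.asIdeal ↔ _
        rw [RingEquiv.symm_apply_apply]) }

variable (k : Type u) [Field k] [Algebra k A]

open PowerSeries in
/-- The map to the branches. -/
theorem exists_branches [Module.Finite A A'] (hdim : ringKrullDim A = 1)
    (hres : ∀ a : A, ∃ c : k, a - algebraMap k A c ∈ maximalIdeal A) (n : ℕ)
    (hn : Brnch.numBranches A = n) (hδ : Curv2.deltaInv A + 1 = n) :
    ∃ g : A →+* (Fin n → PowerSeries k), (∀ c, g (algebraMap k A c) = fun _ => C c) ∧
      (∀ N a, (∀ i, X ^ N ∣ g a i) ↔ a ∈ maximalIdeal A ^ N) ∧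
      ∀ N, ∀ f ∈ Model.cross k n, ∃ a, ∀ i, X ^ N ∣ g a i - f i := by
  classical
  rw [numBranches_eq] at hn
  haveI : Finite (MaximalSpectrum A') := by
    rcases finite_or_infinite (MaximalSpectrum A') with h | h
    · exact h
    · rw [ENat.card_eq_top_of_infinite] at hn
      exact absurd hn.symm (ENat.natCast_ne_top n)
  have hcard : Nat.card (MaximalSpectrum A') = n := by
    rw [ENat.card_eq_coe_natCard] at hn
    exact_mod_cast hn
  let v : Fin n ≃ MaximalSpectrum A' := (Finite.equivFinOfCardEq hcard).symm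
  have hqm : ∀ i, (v i).asIdeal.IsMaximal := fun i => (v i).isMaximal
  obtain ⟨hsurj, hrad⟩ := S12463.of_length_eq A A'
    (fun q => haveI := q.isMaximal; Ideal.map_le_iff_le_comap.2 (comap_eq A q.asIdeal).ge)
    (hδ.le.trans hn.ge)
  letI : Algebra k A' := ((algebraMap A A').comp (algebraMap k A)).toAlgebra
  have hres' : ∀ i (x : A'), ∃ c : k, x - algebraMap k A' c ∈ (v i).asIdeal := by
    intro i x
    haveI := hqm i
    obtain ⟨a, ha⟩ := hsurj (v i) (Ideal.Quotient.mk _ x)
    obtain ⟨c, hc⟩ := hres a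
    refine ⟨c, ?_⟩
    have h1 : algebraMap A A' a - x ∈ (v i).asIdeal := Ideal.Quotient.eq.1 ha
    have h2 : algebraMap A A' (a - algebraMap k A c) ∈ (v i).asIdeal := by
      rw [← Ideal.mem_comap, comap_eq]; exact hc
    rw [map_sub] at h2
    simpa [RingHom.algebraMap_toAlgebra] using sub_mem h2 h1
  choose π hπ hstep hne using fun i => haveI := hqm i; exists_uniformizer A hdim (v i).asIdeal
  choose ψ hψC hψv hψs using fun i =>
    Branchwise.exists_expansion (k := k) (v i).asIdeal (π i) (hπ i) (hres' i) (hstep i) (hne i)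
  let J : Ideal A' := ⨅ i, (v i).asIdeal
  have hcop : ∀ N, Pairwise fun i j => IsCoprime ((v i).asIdeal ^ N) ((v j).asIdeal ^ N) :=
    fun N i j hij => by
      haveI := hqm i
      haveI := hqm j
      exact (Ideal.isCoprime_of_isMaximal fun h =>
        hij (v.injective (MaximalSpectrum.ext h))).pow
  have hJN : ∀ N x, x ∈ J ^ N ↔ ∀ i, x ∈ (v i).asIdeal ^ N := by
    intro N x
    have h1 : J = ∏ i, (v i).asIdeal := by
      rw [Ideal.prod_eq_iInf_of_pairwise_isCoprime (fun i _ j _ hij => by simpa using hcop 1 hij)]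
      simp [J]
    rw [h1, ← Finset.prod_pow,
      Ideal.prod_eq_iInf_of_pairwise_isCoprime (fun i _ j _ hij => hcop N hij)]
    simp
  have hinj : Function.Injective (algebraMap A A') := fun a b h =>
    IsFractionRing.injective A (FractionRing A) (congrArg Subtype.val h)
  have hmJ : ∀ a ∈ maximalIdeal A, algebraMap A A' a ∈ J := fun a ha => Ideal.mem_iInf.2 fun i => by
    haveI := hqm i
    rw [← Ideal.mem_comap, comap_eq]; exact ha
  have hJm : ∀ x ∈ J, ∃ a ∈ maximalIdeal A, algebraMap A A' a = x := by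
    intro x hx
    obtain ⟨a, rfl⟩ := hrad x fun q => by
      obtain ⟨i, rfl⟩ := v.surjective q
      exact Ideal.mem_iInf.1 hx i
    have hn0 : 0 < n := by
      rcases n with _ | n
      · simp at hδ
      · exact n.succ_pos
    haveI := hqm ⟨0, hn0⟩
    exact ⟨a, by rw [← comap_eq A (v ⟨0, hn0⟩).asIdeal]; exact Ideal.mem_iInf.1 hx _, rfl⟩
  have hpow : ∀ N a, algebraMap A A' a ∈ J ^ N ↔ a ∈ maximalIdeal A ^ N := by
    intro N a
    refine ⟨fun h => ?_, fun h => ?_⟩
    · rcases N with _ | N
      · simp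
      suffices ∀ N, ∀ x ∈ J ^ (N + 1), ∃ b ∈ maximalIdeal A ^ (N + 1), algebraMap A A' b = x by
        obtain ⟨b, hb, he⟩ := this N _ h
        exact hinj he ▸ hb
      intro N
      induction N with
      | zero => simpa using hJm
      | succ N ih =>
        intro x hx
        rw [pow_succ J] at hx
        refine Submodule.mul_induction_on hx (fun y hy z hz => ?_) (fun y z hy hz => ?_)
        · obtain ⟨b, hb, rfl⟩ := ih y hy
          obtain ⟨c, hc, rfl⟩ := hJm z hz
          exact ⟨b * c, by rw [pow_succ]; exact Ideal.mul_mem_mul hb hc, map_mul _ _ _⟩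
        · obtain ⟨b, hb, rfl⟩ := hy
          obtain ⟨c, hc, rfl⟩ := hz
          exact ⟨b + c, add_mem hb hc, map_add _ _ _⟩
    · have h1 : (maximalIdeal A).map (algebraMap A A') ≤ J :=
        Ideal.map_le_iff_le_comap.2 hmJ
      exact Ideal.pow_right_mono h1 N (Ideal.map_pow (algebraMap A A') _ N ▸ Ideal.mem_map_of_mem _ h)
  refine ⟨RingHom.pi fun i => (ψ i).comp (algebraMap A A'), fun c => funext fun i => hψC i c,
    fun N a => ?_, fun N f hf => ?_⟩
  · rw [← hpow N a, hJN]
    exact forall_congr' fun i => hψv i N _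
  · rcases N with _ | N
    · exact ⟨0, fun i => by simp⟩
    choose y hy using fun i => hψs i (N + 1) (f i)
    obtain ⟨x, hx⟩ := Ideal.pi_quotient_surjective (I := fun i => (v i).asIdeal ^ (N + 1))
      (fun i j hij => hcop (N + 1) hij) (fun i => Ideal.Quotient.mk _ (y i))
    have hxf : ∀ i, X ^ (N + 1) ∣ ψ i x - f i := fun i => by
      have h1 : X ^ (N + 1) ∣ ψ i x - ψ i (y i) := by
        rw [← map_sub, hψv]
        exact Ideal.Quotient.eq.1 (hx i)
      simpa using dvd_add h1 (hy i)
    have hn0 : 0 < n := by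
      rcases n with _ | n
      · simp at hδ
      · exact n.succ_pos
    let c := constantCoeff (f ⟨0, hn0⟩)
    have hxJ : x - algebraMap k A' c ∈ J := Ideal.mem_iInf.2 fun i => by
      rw [← pow_one (v i).asIdeal, ← hψv i 1, map_sub, hψC, pow_one, X_dvd_iff, map_sub,
        constantCoeff_C]
      have h1 := X_pow_dvd_iff.1 (hxf i) 0 N.succ_pos
      rw [coeff_zero_eq_constantCoeff_apply, map_sub, sub_eq_zero] at h1
      rw [h1, hf i ⟨0, hn0⟩, sub_self]
    obtain ⟨a, -, ha⟩ := hJm _ hxJ
    refine ⟨a + algebraMap k A c, fun i => ?_⟩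
    show X ^ (N + 1) ∣ ψ i (algebraMap A A' (a + algebraMap k A c)) - f i
    rw [map_add, ha]
    simpa [RingHom.algebraMap_toAlgebra] using hxf i

/-- The completion is the multicross, and the tangent space has one dimension for each branch. -/
theorem exists_completion [Module.Finite A A'] (hdim : ringKrullDim A = 1)
    (hres : Function.Bijective (algebraMap k (ResidueField A))) (n : ℕ)
    (hn : Brnch.numBranches A = n) (hδ : Curv2.deltaInv A + 1 = n) :
    (∃ φ : AdicCompletion (maximalIdeal A) A →+* (Fin n → PowerSeries k),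
      Function.Injective φ ∧
      (∀ c : k, φ (algebraMap A _ (algebraMap k A c)) = fun _ => algebraMap k (PowerSeries k) c) ∧
      Set.range φ = (Model.cross k n : Set (Fin n → PowerSeries k))) ∧
    Module.finrank (ResidueField A) (CotangentSpace A) = n := by
  have hres' : ∀ a : A, ∃ c : k, a - algebraMap k A c ∈ maximalIdeal A := fun a => by
    obtain ⟨c, hc⟩ := hres.2 (residue A a)
    refine ⟨c, ?_⟩
    rw [← residue_eq_zero_iff, map_sub, sub_eq_zero]
    exact hc.symm
  obtain ⟨g, hc, hmem, hlift⟩ := exists_branches A k hdim hres' n hn hδ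
  exact ⟨Branchwise.exists_completion g hc hmem hlift hres',
    Branchwise.finrank_cotangent g hc hmem hlift hres'⟩

end Groth.Agent.H25.Multi.Completion
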