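import Mathlib.AlgebraicGeometry.Properties
import Mathlib.Topology.KrullDimension

/-! Closed points of curves have one-dimensional local rings. -/

set_option autoImplicit false
set_option linter.style.haveILetI false
universe u
open CategoryTheory AlgebraicGeometry TopologicalSpace

namespace Groth.Agent.H25.Multi.CurveStalk

/-- Closed points of a scheme whose components are curves have one-dimensional local rings. -/
theorem ringKrullDim_stalk (X : Scheme.{u})
    (hequi : ∀ Z ∈ irreducibleComponents (X : Type u), topologicalKrullDim Z = 1)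
    (x : X) (hx : IsClosed ({x} : Set X)) : ringKrullDim (X.presheaf.stalk x) = 1 := by
  rw [ringKrullDim_stalk_eq_coheight]
  refine congrArg WithBot.some (le_antisymm ?_ ?_)
  · by_contra hc
    obtain ⟨p, hp0, hp2⟩ := Order.exists_series_of_le_coheight x (n := 2)
      (Order.add_one_le_of_lt (not_le.1 hc))
    obtain ⟨Z, hZ, hbZ⟩ : ∃ Z ∈ irreducibleComponents (X : Type u), p.last ∈ Z :=
      ⟨irreducibleComponent p.last, irreducibleComponent_mem_irreducibleComponents _,
        mem_irreducibleComponent⟩
    have hmem : ∀ i, p i ∈ Z := fun i =>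
      (Scheme.le_iff_specializes.1 (p.monotone (Fin.le_last i))).mem_closed
        (isClosed_of_mem_irreducibleComponents _ hZ) hbZ
    let C : Z → IrreducibleCloseds Z := fun a =>
      ⟨closure {a}, isIrreducible_singleton.closure, isClosed_closure⟩
    have hlt : ∀ i j, i < j → C ⟨p i, hmem i⟩ < C ⟨p j, hmem j⟩ := fun i j hij => by
      have hs : p j ⤳ p i := Scheme.le_iff_specializes.1 (p.strictMono hij).le
      have hs' : (⟨p j, hmem j⟩ : Z) ⤳ ⟨p i, hmem i⟩ := (subtype_specializes_iff _ _).2 hs
      refine lt_of_le_of_ne (closure_minimal (Set.singleton_subset_iff.2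
        (specializes_iff_mem_closure.1 hs')) isClosed_closure) fun e => ?_
      have hs'' : (⟨p i, hmem i⟩ : Z) ⤳ ⟨p j, hmem j⟩ := specializes_iff_mem_closure.2
        ((congrArg (fun c : IrreducibleCloseds Z => (c : Set Z)) e).ge (subset_closure rfl))
      exact (p.strictMono hij).ne (((subtype_specializes_iff _ _).1 hs'').antisymm hs).eq
    let s : LTSeries (IrreducibleCloseds Z) :=
      LTSeries.mk p.length (fun i => C ⟨p i, hmem i⟩) fun i j h => hlt i j h
    have h1 : (p.length : WithBot ℕ∞) ≤ 1 :=
      (Order.LTSeries.length_le_krullDim s).trans (hequi Z hZ).le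
    rw [hp2] at h1
    exact absurd h1 (by decide)
  · obtain ⟨Z, hZ, hxZ⟩ : ∃ Z ∈ irreducibleComponents (X : Type u), x ∈ Z :=
      ⟨irreducibleComponent x, irreducibleComponent_mem_irreducibleComponents _,
        mem_irreducibleComponent⟩
    obtain ⟨η, hη⟩ := QuasiSober.sober hZ.1 (isClosed_of_mem_irreducibleComponents _ hZ)
    have hne : η ≠ x := by
      rintro rfl
      have hZx : Z = {η} := by rw [← hη.def, hx.closure_eq]
      haveI : Subsingleton Z := by rw [hZx]; infer_instance
      have h1 := hequi Z hZ
      haveI : Subsingleton (IrreducibleCloseds Z) := ⟨fun a b => IrreducibleCloseds.ext (by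
        exact a.isIrreducible'.1.eq_univ.trans b.isIrreducible'.1.eq_univ.symm)⟩
      have h2 : topologicalKrullDim Z ≤ 0 := Order.krullDim_nonpos_of_subsingleton
      rw [h1] at h2
      exact absurd h2 (by decide)
    have hlt : x < η := lt_of_le_not_ge (Scheme.le_iff_specializes.2 (hη.specializes hxZ)) fun h =>
      hne ((Scheme.le_iff_specializes.1 h).antisymm (hη.specializes hxZ)).eq.symm
    exact le_trans (by simp) (Order.coheight_add_one_le hlt)

end Groth.Agent.H25.Multi.CurveStalk
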