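import Groth.Prelude.Def_Curv2
import Groth.Agent.H25.NormRed
import Groth.Agent.H24.PowerSeries
import Mathlib.RingTheory.PowerSeries.Inverse
import Mathlib.RingTheory.Length
import Mathlib.Algebra.Group.Pi.Units

/-!
The multicross ring: tuples of power series with a common constant term.
-/

set_option autoImplicit false
set_option linter.style.haveILetI false
universe u

namespace Groth.Agent.H25.Multi.Model

open PowerSeries
open scoped nonZeroDivisors

variable (k : Type u) [Field k] (n : ℕ)

/-- Tuples of power series with a common constant term. -/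
noncomputable def cross : Subalgebra k (Fin n → PowerSeries k) where
  carrier := {f | ∀ i j, constantCoeff (f i) = constantCoeff (f j)}
  mul_mem' {f g} hf hg i j := by simp [hf i j, hg i j]
  add_mem' {f g} hf hg i j := by simp [hf i j, hg i j]
  algebraMap_mem' c i j := rfl

variable {k n}

theorem mem_cross {f : Fin n → PowerSeries k} :
    f ∈ cross k n ↔ ∀ i j, constantCoeff (f i) = constantCoeff (f j) := Iff.rfl

theorem mem_of_constantCoeff_eq_zero {f : Fin n → PowerSeries k}
    (h : ∀ i, constantCoeff (f i) = 0) : f ∈ cross k n := fun i j => by rw [h i, h j]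

/-- The idempotents. -/
noncomputable def e (i : Fin n) : Fin n → PowerSeries k := fun j => if j = i then 1 else 0

instance isReduced : IsReduced (cross k n) :=
  isReduced_of_injective (cross k n).val Subtype.val_injective

section Normal

/-- The total ring of fractions. -/
abbrev K (k : Type u) [Field k] (n : ℕ) : Type u := Fin n → FractionRing (PowerSeries k)

theorem algebraMap_apply (f : cross k n) (i : Fin n) :
    algebraMap (cross k n) (K k n) f i = algebraMap _ (FractionRing (PowerSeries k)) (f.1 i) := rfl

theorem algebraMap_injective : Function.Injective (algebraMap (cross k n) (K k n)) := fun f g h =>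
  Subtype.ext (funext fun i => IsFractionRing.injective (PowerSeries k)
    (FractionRing (PowerSeries k)) (congrFun h i))

theorem ne_zero_of_mem {f : cross k n} (hf : f ∈ (cross k n)⁰) (i : Fin n) : f.1 i ≠ 0 := by
  intro h
  have hx : (fun j => if j = i then (X : PowerSeries k) else 0) ∈ cross k n :=
    mem_of_constantCoeff_eq_zero fun j => by split_ifs <;> simp
  have h0 : (⟨_, hx⟩ : cross k n) * f = 0 := Subtype.ext (funext fun j => by
    show (if j = i then (X : PowerSeries k) else 0) * f.1 j = 0
    split_ifs with hj
    · rw [hj, h, mul_zero]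
    · rw [zero_mul])
  have := congrArg (fun g : cross k n => g.1 i) ((mem_nonZeroDivisors_iff_right.1 hf) _ h0)
  simp [X_ne_zero] at this

theorem mem_nonZeroDivisors {f : cross k n} (hf : ∀ i, f.1 i ≠ 0) : f ∈ (cross k n)⁰ :=
  mem_nonZeroDivisors_iff_right.2 fun g hg => Subtype.ext (funext fun i =>
    (mul_eq_zero.1 (congrArg (fun g : cross k n => g.1 i) hg : g.1 i * f.1 i = 0)).resolve_right (hf i))

instance isFractionRing : IsFractionRing (cross k n) (K k n) := by
  refine (isLocalization_iff _ _).2 ⟨fun f => ?_, fun y => ?_, fun {x y} h => ⟨1, by rw [algebraMap_injective h]⟩⟩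
  · rw [Pi.isUnit_iff]
    intro i
    rw [algebraMap_apply, isUnit_iff_ne_zero]
    exact fun h => ne_zero_of_mem f.2 i (IsFractionRing.injective (PowerSeries k)
      (FractionRing (PowerSeries k)) (h.trans (map_zero _).symm))
  · choose a b hb hy using fun i => IsFractionRing.div_surjective (A := PowerSeries k) (y i)
    have ha : (fun i => a i * X) ∈ cross k n := mem_of_constantCoeff_eq_zero fun i => by simp
    have hb' : (fun i => b i * X) ∈ cross k n := mem_of_constantCoeff_eq_zero fun i => by simp
    refine ⟨(⟨_, ha⟩, ⟨⟨_, hb'⟩, mem_nonZeroDivisors fun i =>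
      mul_ne_zero (nonZeroDivisors.ne_zero (hb i)) X_ne_zero⟩), funext fun i => ?_⟩
    show y i * algebraMap _ _ (b i * X) = algebraMap _ _ (a i * X)
    rw [map_mul, map_mul, ← mul_assoc, ← hy i, div_mul_cancel₀]
    exact fun h => nonZeroDivisors.ne_zero (hb i) (IsFractionRing.injective (PowerSeries k)
      (FractionRing (PowerSeries k)) (h.trans (map_zero _).symm))

/-- The inclusion of the product of power series rings. -/
noncomputable def ι : (Fin n → PowerSeries k) →ₐ[cross k n] K k n :=
  { algebraMap (Fin n → PowerSeries k) (K k n) with commutes' := fun _ => rfl }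

theorem ι_injective : Function.Injective (ι (k := k) (n := n)) := fun f g h =>
  funext fun i => IsFractionRing.injective (PowerSeries k) (FractionRing (PowerSeries k))
    (congrFun h i)

theorem isIntegral_e (i : Fin n) : IsIntegral (cross k n) (e (k := k) i) := by
  haveI : Nontrivial (cross k n) := ⟨0, 1, fun h => by
    simpa using congrArg (fun g : cross k n => g.1 i) h⟩
  refine ⟨Polynomial.X ^ 2 - Polynomial.X,
    Polynomial.monic_X_pow_sub (by rw [Polynomial.degree_X]; exact_mod_cast one_lt_two), ?_⟩
  rw [Polynomial.eval₂_sub, Polynomial.eval₂_X_pow, Polynomial.eval₂_X, sub_eq_zero]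
  funext j
  simp [e]

theorem isIntegral (f : Fin n → PowerSeries k) : IsIntegral (cross k n) f := by
  classical
  have h : f = algebraMap (cross k n) _ ⟨fun i => f i - C (constantCoeff (f i)),
      mem_of_constantCoeff_eq_zero fun i => by simp⟩ +
      ∑ i, algebraMap (cross k n) _ (algebraMap k (cross k n) (constantCoeff (f i))) * e i := by
    funext j
    rw [Pi.add_apply, Finset.sum_apply]
    show f j = f j - C (constantCoeff (f j)) +
      ∑ i, C (constantCoeff (f i)) * (if j = i then (1 : PowerSeries k) else 0)
    simp
  rw [h]
  exact isIntegral_algebraMap.add (IsIntegral.sum _ fun i _ => isIntegral_algebraMap.mul (isIntegral_e i))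

/-- The normalisation is the product of the power series rings. -/
theorem integralClosure_eq : integralClosure (cross k n) (K k n) = ι.range := by
  apply le_antisymm
  · intro y hy
    have h : ∀ i, IsIntegral (PowerSeries k) (y i) := fun i => by
      refine IsIntegral.map_of_comp_eq ((Pi.evalRingHom _ i).comp (cross k n).val.toRingHom)
        (Pi.evalRingHom (fun _ => FractionRing (PowerSeries k)) i) ?_ hy
      exact RingHom.ext fun f => rfl
    choose f hf using fun i => IsIntegrallyClosed.isIntegral_iff.1 (h i)
    exact ⟨f, funext hf⟩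
  · rintro _ ⟨f, rfl⟩
    exact (isIntegral f).map ι

set_option maxHeartbeats 1000000 in
/-- The normalisation is the product of the power series rings. -/
theorem exists_normalisation :
    Nonempty ((Fin n → PowerSeries k) ≃ₐ[cross k n]
      integralClosure (cross k n) (FractionRing (cross k n))) :=
  ⟨((AlgEquiv.ofInjective ι ι_injective).trans
    (Subalgebra.equivOfEq _ _ integralClosure_eq.symm)).trans
      (AlgEquiv.mapIntegralClosure (FractionRing.algEquiv (cross k n) (K k n)).symm)⟩

end Normal

section Delta

/-- The constant term on the common value. -/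
noncomputable def cc [NeZero n] : cross k n →+* k :=
  ((constantCoeff (R := k)).comp (Pi.evalRingHom _ 0)).comp (cross k n).val.toRingHom

set_option maxHeartbeats 1000000 in
theorem deltaInv_cross [NeZero n] : Curv2.deltaInv (cross k n) = ((n - 1 : ℕ) : ℕ∞) := by
  refine (exists_normalisation (k := k) (n := n)).elim fun ε => ?_
  letI : Algebra (cross k n) k := cc.toAlgebra
  have hs : Function.Surjective (algebraMap (cross k n) k) := fun c =>
    ⟨algebraMap k _ c, constantCoeff_C c⟩
  let Φ : (Fin n → PowerSeries k) →ₗ[cross k n] ({i : Fin n // i ≠ 0} → k) :=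
    { toFun := fun f i => constantCoeff (f i.1) - constantCoeff (f 0)
      map_add' := fun f g => funext fun i => by simp; ring
      map_smul' := fun r f => funext fun i => by
        show constantCoeff (r.1 i.1 * f i.1) - constantCoeff (r.1 0 * f 0) =
          constantCoeff (r.1 0) * (constantCoeff (f i.1) - constantCoeff (f 0))
        rw [map_mul, map_mul, r.2 i.1 0, mul_sub] }
  have hΦ : Function.Surjective Φ := fun c =>
    ⟨fun i => if h : i ≠ 0 then C (c ⟨i, h⟩) else 0, funext fun i => by simp [Φ, i.2]⟩
  have hker : LinearMap.ker Φ =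
      LinearMap.range (Algebra.linearMap (cross k n) (Fin n → PowerSeries k)) := by
    ext f
    constructor
    · intro hf
      have h : ∀ i, constantCoeff (f i) = constantCoeff (f 0) := fun i => by
        by_cases hi : i = 0
        · rw [hi]
        · exact sub_eq_zero.1 (congrFun (LinearMap.mem_ker.1 hf) ⟨i, hi⟩)
      exact ⟨⟨f, fun i j => (h i).trans (h j).symm⟩, rfl⟩
    · rintro ⟨r, rfl⟩
      exact LinearMap.mem_ker.2 (funext fun i => sub_eq_zero.2 (r.2 i.1 0))
  have e1 : ((Fin n → PowerSeries k) ⧸
      LinearMap.range (Algebra.linearMap (cross k n) (Fin n → PowerSeries k)))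
        ≃ₗ[cross k n] ({i : Fin n // i ≠ 0} → k) :=
    (Submodule.quotEquivOfEq _ _ hker.symm).trans (Φ.quotKerEquivOfSurjective hΦ)
  have e2 := Submodule.Quotient.equiv
    (LinearMap.range (Algebra.linearMap (cross k n) (Fin n → PowerSeries k)))
    (LinearMap.range (Algebra.linearMap (cross k n)
      ↥(integralClosure (cross k n) (FractionRing (cross k n)))))
    ε.toLinearEquiv (by
      rw [← LinearMap.range_comp]
      congr 1
      exact LinearMap.ext fun r => ε.commutes r)
  rw [Curv2.deltaInv, ← e2.length_eq, e1.length_eq, Module.length_pi_of_fintype,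
    Module.length_eq_of_surjective (R := k) (S := cross k n) hs]
  simp

theorem card_maximalSpectrum : ENat.card (MaximalSpectrum (Fin n → PowerSeries k)) = n := by
  let f : Fin n → MaximalSpectrum (Fin n → PowerSeries k) := fun i =>
    ⟨(IsLocalRing.maximalIdeal (PowerSeries k)).comap (Pi.evalRingHom (fun _ => PowerSeries k) i),
      Ideal.comap_isMaximal_of_surjective _ (Function.surjective_eval i)⟩
  have hb : Function.Bijective f := by
    refine ⟨fun i j h => by_contra fun hne => ?_, fun M => ?_⟩
    · have h0 : e i ∈ (f j).asIdeal := by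
        show e (k := k) i j ∈ IsLocalRing.maximalIdeal (PowerSeries k)
        simp [e, Ne.symm hne]
      rw [← h] at h0
      have h1 : e (k := k) i i ∈ IsLocalRing.maximalIdeal (PowerSeries k) := h0
      simp [e] at h1
    · obtain ⟨i, hi⟩ : ∃ i, e i ∉ M.asIdeal := by
        by_contra hc
        push Not at hc
        refine M.isMaximal.ne_top ((Ideal.eq_top_iff_one _).2 ?_)
        have : (∑ i, e (k := k) i) = (1 : Fin n → PowerSeries k) := funext fun j => by simp [e]
        rw [← this]
        exact sum_mem fun i _ => hc i
      refine ⟨i, MaximalSpectrum.ext (M.isMaximal.eq_of_le (f i).isMaximal.ne_top fun g hg => ?_).symm⟩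
      by_contra hni
      have hu : IsUnit (g i) := not_not.1 fun h => hni ((IsLocalRing.mem_maximalIdeal _).2 h)
      obtain ⟨w, hw⟩ := hu.exists_left_inv
      refine hi ?_
      have : e i = (fun j => if j = i then w else 0) * g := funext fun j => by
        by_cases hj : j = i
        · subst hj; simp [e, hw]
        · simp [e, hj]
      rw [this]
      exact M.asIdeal.mul_mem_left _ hg
  rw [← ENat.card_congr (Equiv.ofBijective f hb)]
  simp

theorem isLocalRing [NeZero n] : IsLocalRing (cross k n) := by
  refine .of_nonunits_add fun {a b} ha hb => ?_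
  have hnu : ∀ f : cross k n, f ∈ nonunits (cross k n) ↔ cc f = 0 := fun f => by
    refine ⟨fun hf => by_contra fun h => hf ?_, fun h hf => ?_⟩
    · have hinv : (fun i => (f.1 i)⁻¹) ∈ cross k n := fun i j => by simp [f.2 i j]
      refine IsUnit.of_mul_eq_one ⟨_, hinv⟩ (Subtype.ext (funext fun i => ?_))
      exact PowerSeries.mul_inv_cancel _ (by rw [f.2 i 0]; exact h)
    · have := hf.map (cc (k := k) (n := n))
      rw [h] at this
      exact not_isUnit_zero this
  rw [hnu] at *
  rw [map_add, ha, hb, add_zero]

theorem numBranches_cross [NeZero n] : letI := isLocalRing (k := k) (n := n)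
    Brnch.numBranches (cross k n) = n := by
  letI := isLocalRing (k := k) (n := n)
  obtain ⟨ε⟩ := exists_normalisation (k := k) (n := n)
  obtain ⟨ε', -⟩ := NormRed.exists_normRed_equiv (cross k n) (cross k n) (RingEquiv.refl _)
  have hfin : (minimalPrimes (cross k n)).Finite := by
    have hsub : minimalPrimes (cross k n) ⊆ Set.range fun i : Fin n =>
        RingHom.ker ((Pi.evalRingHom _ i).comp (cross k n).val.toRingHom) := by
      intro P hP
      haveI := hP.1.1
      obtain ⟨i, hi⟩ : ∃ i : Fin n,
          RingHom.ker ((Pi.evalRingHom _ i).comp (cross k n).val.toRingHom) ≤ P := by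
        have hle : (Finset.univ.inf fun i : Fin n =>
            RingHom.ker ((Pi.evalRingHom _ i).comp (cross k n).val.toRingHom)) ≤ P := by
          intro f hf
          have : f = 0 := Subtype.ext (funext fun i =>
            (Submodule.mem_finsetInf.1 hf i (Finset.mem_univ i) : _))
          rw [this]
          exact P.zero_mem
        obtain ⟨i, -, hi⟩ := (Ideal.IsPrime.inf_le' ‹_›).1 hle
        exact ⟨i, hi⟩
      exact ⟨i, le_antisymm hi (hP.2 ⟨RingHom.ker_isPrime _, bot_le⟩ hi)⟩
    exact (Set.finite_range _).subset hsub
  rw [Brnch.numBranches, if_pos hfin,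
    ENat.card_congr (?_ : MaximalSpectrum (CAlg2.normRed (cross k n)) ≃
      MaximalSpectrum (Fin n → PowerSeries k)), card_maximalSpectrum]
  let ee : (Fin n → PowerSeries k) ≃+* CAlg2.normRed (cross k n) := ε.toRingEquiv.trans ε'
  exact
    { toFun := fun M => ⟨M.asIdeal.comap (ee : (Fin n → PowerSeries k) →+* CAlg2.normRed (cross k n)),
        haveI := M.isMaximal
        Ideal.comap_isMaximal_of_surjective _ ee.surjective⟩
      invFun := fun M =>
        ⟨M.asIdeal.comap (ee.symm : CAlg2.normRed (cross k n) →+* (Fin n → PowerSeries k)),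
          haveI := M.isMaximal
          Ideal.comap_isMaximal_of_surjective _ ee.symm.surjective⟩
      left_inv := fun M => MaximalSpectrum.ext (by
        ext x
        show ee (ee.symm x) ∈ M.asIdeal ↔ _
        rw [RingEquiv.apply_symm_apply])
      right_inv := fun M => MaximalSpectrum.ext (by
        ext x
        show ee.symm (ee x) ∈ M.asIdeal ↔ _
        rw [RingEquiv.symm_apply_apply]) }

end Delta

section Series

variable (k n)

/-- The coefficients on the `i`-th axis. -/
noncomputable def axis (i : Fin n) : MvPowerSeries (Fin n) k →+* PowerSeries k where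
  toFun f := PowerSeries.mk fun m => MvPowerSeries.coeff (Finsupp.single i m) f
  map_one' := by
    classical
    ext m
    simp [MvPowerSeries.coeff_one, Finsupp.single_eq_zero, PowerSeries.coeff_one]
  map_mul' f g := by
    classical
    ext m
    rw [coeff_mk, MvPowerSeries.coeff_mul, Finsupp.antidiagonal_single, Finset.sum_map,
      PowerSeries.coeff_mul]
    simp
  map_zero' := by ext m; simp
  map_add' f g := by ext m; simp

/-- The axes of the multicross. -/
noncomputable def axes : MvPowerSeries (Fin n) k →+* cross k n :=
  RingHom.codRestrict (RingHom.pi (axis k n)) (cross k n) fun f i j => by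
    show constantCoeff (axis k n i f) = constantCoeff (axis k n j f)
    simp only [axis, RingHom.coe_mk, MonoidHom.coe_mk, OneHom.coe_mk, constantCoeff_mk,
      Finsupp.single_zero]

theorem coeff_axes (f : MvPowerSeries (Fin n) k) (i : Fin n) (m : ℕ) :
    PowerSeries.coeff m ((axes k n f).1 i) = MvPowerSeries.coeff (Finsupp.single i m) f := by
  show PowerSeries.coeff m (axis k n i f) = _
  simp [axis]

theorem axes_C (c : k) : axes k n (MvPowerSeries.C c) = algebraMap k (cross k n) c := by
  classical
  refine Subtype.ext (funext fun i => PowerSeries.ext fun m => ?_)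
  rw [coeff_axes, MvPowerSeries.coeff_C]
  show _ = PowerSeries.coeff m (PowerSeries.C c)
  simp [PowerSeries.coeff_C]

theorem axes_surjective [NeZero n] : Function.Surjective (axes k n) := by
  classical
  intro g
  let f : MvPowerSeries (Fin n) k := fun d =>
    if d = 0 then constantCoeff (g.1 0) else
      if h : ∃ i, d = Finsupp.single i (d i) then coeff (d h.choose) (g.1 h.choose) else 0
  refine ⟨f, Subtype.ext (funext fun i => PowerSeries.ext fun m => ?_)⟩
  rw [coeff_axes]
  show f (Finsupp.single i m) = _
  by_cases hm : m = 0
  · subst hm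
    simp [f, PowerSeries.coeff_zero_eq_constantCoeff_apply, g.2 i 0]
  · have h : ∃ j, Finsupp.single i m = Finsupp.single j (Finsupp.single i m j) := ⟨i, by simp⟩
    simp only [f, Finsupp.single_eq_zero, hm, if_false, dif_pos h]
    have hj : h.choose = i := by
      by_contra hne
      have := h.choose_spec
      rw [Finsupp.single_eq_of_ne hne, Finsupp.single_zero, Finsupp.single_eq_zero] at this
      exact hm this
    rw [hj, Finsupp.single_eq_same]

theorem ker_axes [NeZero n] : RingHom.ker (axes k n) = Ideal.span {f : MvPowerSeries (Fin n) k |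
    ∃ i j : Fin n, i ≠ j ∧ f = MvPowerSeries.X i * MvPowerSeries.X j} := by
  classical
  apply le_antisymm
  · intro f hf
    have hax : ∀ i m, MvPowerSeries.coeff (Finsupp.single i m) f = 0 := fun i m => by
      rw [← coeff_axes, RingHom.mem_ker.1 hf]; simp
    let P : (Fin n →₀ ℕ) → Fin n × Fin n → Prop := fun d p => p.1 ≠ p.2 ∧ d p.1 ≠ 0 ∧ d p.2 ≠ 0
    let s : Fin n × Fin n → (Fin n →₀ ℕ) := fun p => Finsupp.single p.1 1 + Finsupp.single p.2 1
    let ch : (Fin n →₀ ℕ) → Option (Fin n × Fin n) := fun d =>
      if h : ∃ p, P d p then some h.choose else none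
    let g : Fin n × Fin n → MvPowerSeries (Fin n) k := fun p d =>
      if ch (s p + d) = some p then MvPowerSeries.coeff (s p + d) f else 0
    have hle : ∀ d p, ch d = some p → p.1 ≠ p.2 ∧ s p ≤ d := by
      intro d p h
      simp only [ch] at h
      split_ifs at h with hex
      obtain rfl := Option.some.inj h
      obtain ⟨hne, h1, h2⟩ := hex.choose_spec
      refine ⟨hne, fun j => ?_⟩
      simp only [s, Finsupp.add_apply, Finsupp.single_apply]
      split_ifs with a b b <;> subst_vars <;> omega
    have hsum : f = ∑ p, MvPowerSeries.monomial (s p) 1 * g p := by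
      refine MvPowerSeries.ext fun d => ?_
      rw [map_sum]
      have hterm : ∀ p, MvPowerSeries.coeff d (MvPowerSeries.monomial (s p) 1 * g p) =
          if ch d = some p then MvPowerSeries.coeff d f else 0 := by
        intro p
        rw [MvPowerSeries.coeff_monomial_mul]
        by_cases hp : s p ≤ d
        · rw [if_pos hp, one_mul]
          show (if ch (s p + (d - s p)) = some p then _ else 0) = _
          rw [add_tsub_cancel_of_le hp]
        · rw [if_neg hp, if_neg fun h => hp (hle d p h).2]
      rw [Finset.sum_congr rfl fun p _ => hterm p]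
      rcases hc : ch d with _ | p
      · simp only [if_neg (Option.some_ne_none _).symm, Finset.sum_const_zero]
        simp only [ch] at hc
        split_ifs at hc with hex
        by_cases h0 : d = 0
        · subst h0
          simpa using hax 0 0
        · obtain ⟨i, hi⟩ := Finsupp.support_nonempty_iff.2 h0
          have hd : d = Finsupp.single i (d i) := Finsupp.ext fun j => by
            by_cases hj : i = j
            · subst hj; simp
            · rw [Finsupp.single_eq_of_ne (Ne.symm hj)]
              by_contra hne
              exact hex ⟨(i, j), hj, Finsupp.mem_support_iff.1 hi, hne⟩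
          rw [hd]; exact hax i (d i)
      · simp
    rw [hsum]
    refine sum_mem fun p _ => ?_
    by_cases hp : p.1 = p.2
    · have : g p = 0 := MvPowerSeries.ext fun d => by
        show (if ch (s p + d) = some p then _ else 0) = 0
        rw [if_neg fun h => (hle _ p h).1 hp]
      rw [this, mul_zero]
      exact zero_mem _
    · refine Ideal.mul_mem_right _ _ (Ideal.subset_span ⟨p.1, p.2, hp, ?_⟩)
      rw [MvPowerSeries.X_def, MvPowerSeries.X_def, MvPowerSeries.monomial_mul_monomial, one_mul]
  · rw [Ideal.span_le]
    rintro _ ⟨i, j, hij, rfl⟩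
    refine RingHom.mem_ker.2 (Subtype.ext (funext fun l => PowerSeries.ext fun m => ?_))
    rw [coeff_axes, MvPowerSeries.X_def, MvPowerSeries.X_def, MvPowerSeries.monomial_mul_monomial,
      MvPowerSeries.coeff_monomial]
    rw [if_neg]
    · simp
    · intro h
      have h1 := DFunLike.congr_fun h i
      have h2 := DFunLike.congr_fun h j
      simp [Finsupp.single_apply, hij, Ne.symm hij] at h1 h2
      split_ifs at h1 h2 with a b
      exact hij (a.symm.trans b)

/-- The multicross ring by generators and relations. -/
theorem exists_equiv [NeZero n] :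
    ∃ ψ : (MvPowerSeries (Fin n) k ⧸ Ideal.span {f : MvPowerSeries (Fin n) k |
        ∃ i j : Fin n, i ≠ j ∧ f = MvPowerSeries.X i * MvPowerSeries.X j}) ≃+* cross k n,
      ∀ c : k, ψ (Ideal.Quotient.mk _ (MvPowerSeries.C c)) = algebraMap k (cross k n) c :=
  ⟨(Ideal.quotEquivOfEq (ker_axes k n).symm).trans
    (RingHom.quotientKerEquivOfSurjective (axes_surjective k n)), fun c => axes_C k n c⟩

end Series

end Groth.Agent.H25.Multi.Model
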